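import Cfsg.Agent.ProdFusion.Main

/-!
A strongly closed subgroup `U` of an elementary abelian Sylow 2-subgroup `P` of a group with trivial
odd core is normal, provided some automorphism stabilising `P` fixes `U` pointwise and each element
of `U` is `x * α x` with `x ∈ P`.
-/

set_option autoImplicit false
set_option linter.unusedSectionVars false
set_option linter.style.haveILetI false

namespace Cfsg.Agent.EightType

open Subgroup

universe u

variable {R : Type u} [Group R]

/-- A subgroup of an elementary abelian 2-group invariant under an odd group of automorphisms has an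
invariant complement. -/
theorem exists_invariant_complement {P : Type u} [CommGroup P] [Finite P] (h2 : ∀ x : P, x * x = 1)
    (Q : Subgroup (MulAut P)) (hQ : Odd (Nat.card Q)) (U : Subgroup P)
    (hU : ∀ q ∈ Q, ∀ u ∈ U, q u ∈ U) :
    ∃ V : Subgroup P, U ⊓ V = ⊥ ∧ (∀ x, ∃ u ∈ U, ∃ v ∈ V, x = u * v) ∧
      ∀ q ∈ Q, ∀ v ∈ V, q v ∈ V := by
  classical
  obtain ⟨W, hW, hmax⟩ := Set.Finite.exists_maximal (s := {W : Subgroup P | U ⊓ W = ⊥})
    (Set.toFinite _) ⟨⊥, by simp⟩
  have hinv : ∀ x : P, x⁻¹ = x := fun x => inv_eq_of_mul_eq_one_left (h2 x)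
  have hex : ∀ x : P, ∃ u ∈ U, x * u ∈ W := by
    intro x
    by_contra hne
    push Not at hne
    have hxW : x ∉ W := fun hx => hne 1 U.one_mem (by simpa using hx)
    have hW' : U ⊓ (W ⊔ zpowers x) = ⊥ := by
      rw [Subgroup.eq_bot_iff_forall]
      rintro y ⟨hyU, hy⟩
      obtain ⟨w, hw, c, hc, rfl⟩ := Subgroup.mem_sup.1 hy
      obtain ⟨k, rfl⟩ := mem_zpowers_iff.1 hc
      rcases Int.even_or_odd' k with ⟨j, rfl | rfl⟩
      · rw [zpow_mul, zpow_two, h2, one_zpow, mul_one] at hyU ⊢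
        exact (Subgroup.eq_bot_iff_forall _).1 hW w ⟨hyU, hw⟩
      · rw [zpow_add_one, zpow_mul, zpow_two, h2, one_zpow, one_mul] at hyU ⊢
        refine absurd ?_ (hne (w * x) hyU)
        rwa [show x * (w * x) = w * (x * x) by rw [mul_left_comm], h2, mul_one]
    exact hxW ((hmax (show W ⊔ zpowers x ∈ _ from hW') le_sup_left)
      (mem_sup_right (mem_zpowers x)))
  choose r hrU hrW using hex
  have huniq : ∀ x u : P, u ∈ U → x * u ∈ W → u = r x := by
    intro x u hu hxu
    have h : u * r x ∈ U ⊓ W := ⟨mul_mem hu (hrU x), by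
      have := mul_mem hxu (hrW x)
      rwa [show x * u * (x * r x) = (x * x) * (u * r x) by rw [mul_mul_mul_comm], h2, one_mul]
        at this⟩
    rw [hW, mem_bot] at h
    rw [← hinv (r x)]
    exact mul_eq_one_iff_eq_inv.1 h
  have rmul : ∀ x y, r (x * y) = r x * r y := fun x y => (huniq _ _ (mul_mem (hrU x) (hrU y)) (by
    rw [mul_mul_mul_comm]; exact mul_mem (hrW x) (hrW y))).symm
  have rU : ∀ u ∈ U, r u = u := fun u hu => (huniq u u hu (by rw [h2]; exact W.one_mem)).symm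
  haveI : Finite (MulAut P) :=
    Finite.of_injective (fun (f : MulAut P) => (f : P → P)) DFunLike.coe_injective
  haveI : Fintype Q := Fintype.ofFinite Q
  let F : P → P := fun x => ∏ q : Q, (q : MulAut P) (r ((q : MulAut P)⁻¹ x))
  have Fmul : ∀ x y, F (x * y) = F x * F y := fun x y => by
    simp only [F, map_mul, rmul, Finset.prod_mul_distrib]
  have FU : ∀ x, F x ∈ U := fun x => prod_mem fun q _ => hU _ q.2 _ (hrU _)
  have Fid : ∀ u ∈ U, F u = u := by
    intro u hu
    have : ∀ q : Q, (q : MulAut P) (r ((q : MulAut P)⁻¹ u)) = u := fun q => by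
      rw [rU _ (hU _ (inv_mem q.2) u hu)]
      exact (q : MulAut P).apply_symm_apply u
    simp only [F, this, Finset.prod_const, Finset.card_univ]
    obtain ⟨m, hm⟩ := hQ
    rw [← Nat.card_eq_fintype_card, hm, pow_succ, pow_mul, pow_two, h2, one_pow, one_mul]
  have Fequi : ∀ p ∈ Q, ∀ x, F (p x) = p (F x) := by
    intro p hp x
    simp only [F, map_prod]
    refine (Fintype.prod_equiv (Equiv.mulLeft (⟨p, hp⟩ : Q)) _ _ fun q => ?_).symm
    simp only [Equiv.coe_mulLeft, Subgroup.coe_mul, mul_inv_rev, MulAut.mul_apply]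
    rw [MulAut.inv_apply_self]
  let f : P →* P := MonoidHom.mk' F Fmul
  refine ⟨f.ker, ?_, ?_, ?_⟩
  · rw [Subgroup.eq_bot_iff_forall]
    rintro x ⟨hxU, hx⟩
    have : F x = 1 := hx
    rwa [Fid x hxU] at this
  · intro x
    refine ⟨F x, FU x, F x * x, ?_, by rw [← mul_assoc, h2, one_mul]⟩
    show F (F x * x) = 1
    rw [Fmul, Fid _ (FU x), h2]
  · intro q hq v hv
    show F (q v) = 1
    rw [Fequi q hq, show F v = 1 from hv, map_one]

variable [Finite R]

/-- An invariant subgroup of an abelian Sylow subgroup is strongly closed. -/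
theorem stronglyClosed_of_invariant (P : Sylow 2 R)
    (hab : ∀ x ∈ (P : Subgroup R), ∀ y ∈ (P : Subgroup R), x * y = y * x) {V : Subgroup R}
    (hV : V ≤ (P : Subgroup R))
    (hinv : ∀ n ∈ normalizer ((P : Subgroup R) : Set R), ∀ v ∈ V, n * v * n⁻¹ ∈ V) :
    Cfsg.IsStronglyClosed V (P : Subgroup R) := by
  refine ⟨hV, fun x hx g hg => ?_⟩
  have hc : ∀ y ∈ (P : Subgroup R), y ∈ centralizer ((P : Subgroup R) : Set R) := fun y hy =>
    mem_centralizer_iff.2 fun z hz => hab z hz y hy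
  obtain ⟨n, hn, e⟩ := Sylow.conj_eq_normalizer_conj_of_mem_centralizer P x g⁻¹ (hc x (hV hx))
    (hc _ (by rwa [inv_inv]))
  rw [inv_inv] at e
  rw [e]
  simpa using hinv n⁻¹ (inv_mem hn) x hx

theorem normal_of_stronglyClosed_of_aut (hO : Cfsg.pPrimeCore 2 R = ⊥) (P : Sylow 2 R)
    (hab : ∀ x ∈ (P : Subgroup R), ∀ y ∈ (P : Subgroup R), x * y = y * x)
    (h2 : ∀ x ∈ (P : Subgroup R), x * x = 1) (U : Subgroup R)
    (hU : Cfsg.IsStronglyClosed U (P : Subgroup R)) (α : R ≃* R)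
    (hαP : ∀ x, α x ∈ (P : Subgroup R) ↔ x ∈ (P : Subgroup R)) (hαU : ∀ u ∈ U, α u = u)
    (hcov : ∀ u ∈ U, ∃ x ∈ (P : Subgroup R), x * α x = u) : U.Normal := by
  classical
  haveI : Fact (Nat.Prime 2) := ⟨Nat.prime_two⟩
  letI : CommGroup ↥(P : Subgroup R) :=
    { (inferInstance : Group ↥(P : Subgroup R)) with
      mul_comm := fun x y => Subtype.ext (hab x x.2 y y.2) }
  let ψ := Subgroup.normalizerMonoidHom (P : Subgroup R)
  have hψ : ∀ (n : ↥(normalizer ((P : Subgroup R) : Set R))) (x : ↥(P : Subgroup R)),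
      ((ψ n x : ↥(P : Subgroup R)) : R) = n * x * (n : R)⁻¹ := fun n x => rfl
  have hodd : Odd (Nat.card ψ.range) := by
    have hle : (P : Subgroup R).subgroupOf (normalizer ((P : Subgroup R) : Set R)) ≤ ψ.ker := by
      intro n hn
      refine MonoidHom.mem_ker.2 (MulEquiv.ext fun x => Subtype.ext ?_)
      rw [hψ]
      show (n : R) * x * (n : R)⁻¹ = x
      rw [hab _ (mem_subgroupOf.1 hn) _ x.2, mul_inv_cancel_right]
    have h1 : Nat.card ψ.range ∣ (P : Subgroup R).index := by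
      rw [← Subgroup.index_ker]
      exact (Subgroup.index_dvd_of_le hle).trans
        (Subgroup.relIndex_dvd_index_of_le Subgroup.le_normalizer)
    exact Nat.odd_iff.2 (Nat.two_dvd_ne_zero.1 fun h => P.not_dvd_index (h.trans h1))
  obtain ⟨V₀, hdisj, hsplit, hV₀⟩ := exists_invariant_complement
    (fun x : ↥(P : Subgroup R) => Subtype.ext (h2 x x.2)) ψ.range hodd
    (U.subgroupOf (P : Subgroup R)) (by
      rintro _ ⟨n, rfl⟩ u hu
      refine mem_subgroupOf.2 ?_
      rw [hψ]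
      exact hU.2 _ (mem_subgroupOf.1 hu) n ((hψ n u) ▸ (ψ n u).2))
  let V : Subgroup R := V₀.map (P : Subgroup R).subtype
  have hVP : V ≤ (P : Subgroup R) := map_subtype_le _
  have hscV : Cfsg.IsStronglyClosed V (P : Subgroup R) := by
    refine stronglyClosed_of_invariant P hab hVP ?_
    rintro n hn _ ⟨v, hv, rfl⟩
    exact ⟨ψ ⟨n, hn⟩ v, hV₀ _ ⟨⟨n, hn⟩, rfl⟩ v hv, hψ ⟨n, hn⟩ v⟩
  let W : Subgroup R := V.map α.toMonoidHom
  have hWP : W ≤ (P : Subgroup R) := by
    rintro _ ⟨v, hv, rfl⟩; exact (hαP v).2 (hVP hv)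
  have hscW : Cfsg.IsStronglyClosed W (P : Subgroup R) := by
    refine ⟨hWP, ?_⟩
    rintro _ ⟨v, hv, rfl⟩ g hg
    have e : g * α v * g⁻¹ = α (α.symm g * v * (α.symm g)⁻¹) := by simp
    rw [MulEquiv.toMonoidHom_eq_coe, MonoidHom.coe_coe, e] at hg ⊢
    exact ⟨_, hscV.2 v hv _ ((hαP _).1 hg), rfl⟩
  have hUV : U ⊓ V = ⊥ := by
    rw [Subgroup.eq_bot_iff_forall]
    rintro x ⟨hxU, v, hv, rfl⟩
    exact congrArg Subtype.val ((Subgroup.eq_bot_iff_forall _).1 hdisj v ⟨hxU, hv⟩)
  have hUW : U ⊓ W = ⊥ := by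
    rw [Subgroup.eq_bot_iff_forall]
    rintro x ⟨hxU, v, hv, rfl⟩
    have h1 : α v ∈ U := hxU
    have h3 : v = α v := α.injective (by rw [hαU _ h1])
    have : v = 1 := (Subgroup.eq_bot_iff_forall _).1 hUV v ⟨h3 ▸ h1, hv⟩
    simp [this]
  have c1 := ProdFusion.product_fusion hO P U V
    ⟨hU, hscV, fun a ha b hb => hab a (hU.1 ha) b (hVP hb), hUV⟩
  have c2 := ProdFusion.product_fusion hO P U W
    ⟨hU, hscW, fun a ha b hb => hab a (hU.1 ha) b (hWP hb), hUW⟩
  rw [commutator_eq_bot_iff_le_centralizer] at c1 c2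
  set L := normalClosure (U : Set R) with hL
  haveI : L.Normal := normalClosure_normal
  have hVc : ∀ v ∈ V, v ∈ centralizer (L : Set R) := fun v hv =>
    mem_centralizer_iff.2 fun y hy => ((mem_centralizer_iff.1 (c1 hy)) v (subset_normalClosure hv)).symm
  have hWc : ∀ v ∈ W, v ∈ centralizer (L : Set R) := fun v hv =>
    mem_centralizer_iff.2 fun y hy => ((mem_centralizer_iff.1 (c2 hy)) v (subset_normalClosure hv)).symm
  have hUc : U ≤ centralizer (L : Set R) := by
    intro u hu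
    obtain ⟨x, hx, rfl⟩ := hcov u hu
    obtain ⟨a, ha, w, hw, hxe⟩ := hsplit ⟨x, hx⟩
    have hxe' : x = (a : R) * (w : R) := congrArg Subtype.val hxe
    have hw' : (w : R) ∈ V := ⟨w, hw, rfl⟩
    have hαw : α (w : R) ∈ W := ⟨_, hw', rfl⟩
    have haU : (a : R) ∈ U := ha
    have : x * α x = (w : R) * α w := by
      rw [hxe', map_mul, hαU _ haU, hab _ a.2 _ w.2, mul_assoc, ← mul_assoc (a : R),
        h2 _ a.2, one_mul]
    rw [this]
    exact mul_mem (hVc _ hw') (hWc _ hαw)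
  have hLc : L ≤ centralizer (L : Set R) := by
    haveI : (centralizer (L : Set R)).Normal := inferInstance
    exact normalClosure_le_normal hUc
  let T : Subgroup R :=
    { carrier := {x | x ∈ L ∧ x * x = 1}
      one_mem' := ⟨one_mem _, one_mul 1⟩
      mul_mem' := fun {a b} ha hb => ⟨mul_mem ha.1 hb.1, by
        have e : b * a = a * b := ((mem_centralizer_iff.1 (hLc ha.1)) b hb.1)
        rw [mul_assoc, ← mul_assoc b, e, mul_assoc a, hb.2, mul_one, ha.2]⟩
      inv_mem' := fun {a} ha => ⟨inv_mem ha.1, by rw [← mul_inv_rev, ha.2, inv_one]⟩ }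
  haveI : T.Normal := ⟨fun x hx g => ⟨‹L.Normal›.conj_mem x hx.1 g, by
    rw [conj_mul, hx.2, mul_one, mul_inv_cancel]⟩⟩
  have hLT : L ≤ T := normalClosure_le_normal fun u hu =>
    ⟨subset_normalClosure hu, h2 u (hU.1 hu)⟩
  have hLP : L ≤ (P : Subgroup R) := by
    refine le_trans (Cores.le_pCore ‹L.Normal› ?_) (Cores.pCore_le_sylow P)
    intro x
    refine ⟨1, Subtype.ext ?_⟩
    rw [pow_one, SubmonoidClass.coe_pow, pow_two]
    exact (hLT x.2).2
  exact ⟨fun u hu g => hU.2 u hu g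
    (hLP (‹L.Normal›.conj_mem u (subset_normalClosure hu) g))⟩

end Cfsg.Agent.EightType
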