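import Cfsg.Agent.EightType.CentZOne
import Cfsg.Agent.EightType.Closed
import Cfsg.Agent.EightType.Quot
import Mathlib.GroupTheory.Nilpotent

/-!
The centralizer of the element of a point is its odd core times its part in the normalizer of `A`.
-/

set_option autoImplicit false
set_option linter.unusedSectionVars false
set_option linter.style.haveILetI false
set_option maxHeartbeats 1000000

namespace Cfsg.Agent.EightType

open Subgroup

universe u

variable {G : Type u} [Group G] [Finite G] {A : Subgroup G}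

theorem mem_nz_of_conj {X : Subgroup G} {g : G} (h : ∀ x ∈ X, g * x * g⁻¹ ∈ X) :
    g ∈ normalizer (X : Set G) := by
  rw [mem_normalizer_iff_map_conj_eq]
  refine Subgroup.eq_of_le_of_card_ge ?_
    (card_map_of_injective (f := ((MulAut.conj g : MulAut G) : G →* G)) (MulAut.conj g).injective).ge
  rintro _ ⟨x, hx, rfl⟩
  exact h x hx

namespace Model

variable (M : Model A)
include M

/-- Transfer and product fusion: the even elements are normal modulo the odd core. -/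
theorem even_conj_mem {i j : Fin 5} (D : ZData M i j) {g : G} (hg : g * M.z i = M.z i * g) {a : G}
    (ha : a ∈ M.even i) : g * a * g⁻¹ ∈ theta (M.z i) ⊔ M.even i := by
  haveI : Fact (Nat.Prime 2) := ⟨Nat.prime_two⟩
  set z := M.z i with hz
  have hzA : z ∈ A := M.z_mem i
  have hzj2 := M.sq (M.z_mem j)
  have hzjC : M.z j * z = z * M.z j := M.comm (M.z_mem j) hzA
  have hzjE : ∀ e ∈ M.even i, M.z j * e * (M.z j)⁻¹ = e := fun e he => by
    rw [M.comm (M.z_mem j) (M.even_le i he), mul_inv_cancel_right]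
  have hEM : M.even i ≤ D.M₁ := D.even_le_Q.trans D.Q_le
  have hcz : ∀ x : ↥D.M₁, (x : G) * z = z * x := fun x => mem_cent.1 (D.le_cent x.2)
  let z' : ↥D.M₁ := ⟨z, hEM (M.z_mem_even i)⟩
  have hz'2 : z' * z' = 1 := Subtype.ext (M.sq hzA)
  have hz'1 : z' ≠ 1 := fun h => M.z_ne i (congrArg Subtype.val h)
  have hc' : ∀ x : ↥D.M₁, x * z' = z' * x := fun x => Subtype.ext (hcz x)
  haveI hZn : (zpowers z').Normal := ⟨fun y hy c => by
    obtain ⟨k, rfl⟩ := mem_zpowers_iff.1 hy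
    rw [((show Commute c z' from hc' c).zpow_right k).eq, mul_inv_cancel_right]
    exact zpow_mem (mem_zpowers z') k⟩
  set O₁ := Cfsg.oddCore ↥D.M₁ with hO₁
  haveI : O₁.Normal := Cores.pPrimeCore_normal_inst (p := 2) _
  set N₀ := O₁ ⊔ zpowers z' with hN₀
  haveI : N₀.Normal := Subgroup.sup_normal _ _
  set π := QuotientGroup.mk' N₀ with hπ
  have hπs : Function.Surjective π := QuotientGroup.mk'_surjective N₀
  have hZN : ∀ x : ↥D.M₁, (x : G) ∈ zpowers z → x ∈ N₀ := fun x hx => by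
    obtain ⟨k, hk⟩ := mem_zpowers_iff.1 hx
    exact mem_sup_right (mem_zpowers_iff.2 ⟨k, Subtype.ext (by simpa [z'] using hk)⟩)
  have hπ1 : ∀ x : ↥D.M₁, (x : G) ∈ zpowers z → π x = 1 := fun x hx =>
    (QuotientGroup.eq_one_iff x).2 (hZN x hx)
  -- the Sylow subgroup
  have hQidx : ¬ 2 ∣ (D.Q.subgroupOf D.M₁).index := not_two_dvd_of_odd D.odd
  let P₁ : Sylow 2 ↥D.M₁ :=
    (D.two.of_equiv (subgroupOfEquivOfLe D.Q_le).symm).toSylow hQidx
  have hP₁ : ∀ x : ↥D.M₁, x ∈ (P₁ : Subgroup ↥D.M₁) ↔ (x : G) ∈ D.Q := fun x => mem_subgroupOf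
  let P := P₁.mapSurjective hπs
  have hP : ∀ y ∈ (P : Subgroup (↥D.M₁ ⧸ N₀)), ∃ x : ↥D.M₁, (x : G) ∈ D.Q ∧ π x = y := by
    rintro _ ⟨x, hx, rfl⟩; exact ⟨x, (hP₁ x).1 hx, rfl⟩
  have hab : ∀ x ∈ (P : Subgroup (↥D.M₁ ⧸ N₀)), ∀ y ∈ (P : Subgroup (↥D.M₁ ⧸ N₀)),
      x * y = y * x := by
    intro _ hx _ hy
    obtain ⟨x, hxQ, rfl⟩ := hP _ hx
    obtain ⟨y, hyQ, rfl⟩ := hP _ hy
    have h := hπ1 (x * y * x⁻¹ * y⁻¹) (D.comm _ hxQ _ hyQ)
    rw [map_mul, map_mul, map_mul, map_inv, map_inv] at h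
    exact mul_inv_eq_iff_eq_mul.1 (mul_inv_eq_one.1 h)
  have h2 : ∀ x ∈ (P : Subgroup (↥D.M₁ ⧸ N₀)), x * x = 1 := by
    intro _ hx
    obtain ⟨x, hxQ, rfl⟩ := hP _ hx
    rw [← map_mul]
    exact hπ1 _ (D.sq _ hxQ)
  -- the even part is strongly closed
  set E₁ := (M.even i).subgroupOf D.M₁ with hE₁
  have hsc : Cfsg.IsStronglyClosed E₁ (P₁ : Subgroup ↥D.M₁) := by
    refine ⟨fun x hx => (hP₁ x).2 (D.even_le_Q hx), fun x hx g hg => ?_⟩
    have hxE : (x : G) ∈ M.even i := hx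
    have hgQ : (g : G) * x * (g : G)⁻¹ ∈ D.Q := (hP₁ _).1 hg
    show (g : G) * x * (g : G)⁻¹ ∈ M.even i
    set y := (g : G) * x * (g : G)⁻¹ with hy
    have hcy : IsConj (x : G) y := Invol.isConj_conj _ _
    have hxA := M.even_le i hxE
    have hyA : y ∈ A := M.mem_A_of_isConj hxA (D.le_N hgQ) hcy
    exact D.Q_inf _ hgQ hyA
  -- trivial odd core
  have hO : Cfsg.pPrimeCore 2 (↥D.M₁ ⧸ N₀) = ⊥ := by
    set L := (Cfsg.pPrimeCore 2 (↥D.M₁ ⧸ N₀)).comap π with hL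
    haveI : L.Normal := inferInstance
    have hNL : N₀ ≤ L := fun x hx => by
      rw [hL, mem_comap, show π x = 1 from (QuotientGroup.eq_one_iff x).2 hx]
      exact one_mem _
    have e : (⊥ : Subgroup (↥D.M₁ ⧸ N₀)).comap π = N₀ := by
      rw [MonoidHom.comap_bot, hπ, QuotientGroup.ker_mk']
    have h1 : N₀.relIndex L = Nat.card (Cfsg.pPrimeCore 2 (↥D.M₁ ⧸ N₀)) := by
      rw [← relIndex_bot_left]
      conv_lhs => rw [← e, relIndex_comap, hL, map_comap_eq_self_of_surjective hπs]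
    have hidx : Odd ((zpowers z').relIndex L) := by
      rw [← relIndex_mul_relIndex (zpowers z') N₀ L le_sup_right hNL, h1, Nat.odd_mul]
      refine ⟨?_, Nat.coprime_two_right.1 (Cores.pPrimeCore_coprime (p := 2))⟩
      rw [hN₀, relIndex_sup_right]
      exact (Nat.coprime_two_right.1 (Cores.pPrimeCore_coprime (p := 2))).of_dvd_nat
        (relIndex_dvd_card _ _)
    have hLN : L ≤ N₀ := fun x hx => by
      obtain ⟨o, ho, rfl | rfl⟩ := central_split hz'2 hz'1 hc' (hNL (mem_sup_right (mem_zpowers z')))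
        hidx hx
      · exact mem_sup_left ho
      · exact mul_mem (mem_sup_left ho) (mem_sup_right (mem_zpowers z'))
    rw [Subgroup.eq_bot_iff_forall]
    intro y hy
    obtain ⟨x, rfl⟩ := hπs y
    exact (QuotientGroup.eq_one_iff x).2 (hLN hy)
  -- the automorphism
  let e : ↥D.M₁ ≃* ↥D.M₁ :=
    { toFun := fun x => ⟨M.z j * x * (M.z j)⁻¹, D.normal _ hzjC x x.2⟩
      invFun := fun x => ⟨M.z j * x * (M.z j)⁻¹, D.normal _ hzjC x x.2⟩
      left_inv := fun x => Subtype.ext (by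
        show M.z j * (M.z j * x * (M.z j)⁻¹) * (M.z j)⁻¹ = x
        rw [M.inv_eq (M.z_mem j)]
        simp [← mul_assoc, hzj2]
        simp [mul_assoc, hzj2])
      right_inv := fun x => Subtype.ext (by
        show M.z j * (M.z j * x * (M.z j)⁻¹) * (M.z j)⁻¹ = x
        rw [M.inv_eq (M.z_mem j)]
        simp [← mul_assoc, hzj2]
        simp [mul_assoc, hzj2])
      map_mul' := fun x y => Subtype.ext (by
        show M.z j * (x * y : G) * (M.z j)⁻¹
          = M.z j * x * (M.z j)⁻¹ * (M.z j * y * (M.z j)⁻¹)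
        group) }
  have he : N₀.map (e : ↥D.M₁ →* ↥D.M₁) = N₀ := by
    rw [hN₀, Subgroup.map_sup, MonoidHom.map_zpowers]
    congr 1
    · exact Cores.map_pPrimeCore_equiv e
    · congr 1
      exact Subtype.ext (hzjE z (M.z_mem_even i))
  let α := QuotientGroup.congr N₀ N₀ e he
  have hαπ : ∀ x, α (π x) = π (e x) := fun x => QuotientGroup.congr_mk N₀ N₀ e he x
  have hαmem : ∀ y, y ∈ (P : Subgroup (↥D.M₁ ⧸ N₀)) → α y ∈ (P : Subgroup (↥D.M₁ ⧸ N₀)) := by
    intro _ hy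
    obtain ⟨x, hxQ, rfl⟩ := hP _ hy
    exact ⟨e x, (hP₁ _).2 (D.conj _ hxQ), (hαπ x).symm⟩
  have hαP : ∀ y, α y ∈ (P : Subgroup (↥D.M₁ ⧸ N₀)) ↔ y ∈ (P : Subgroup (↥D.M₁ ⧸ N₀)) := by
    intro y
    refine ⟨fun h => ?_, hαmem y⟩
    have h' := hαmem _ h
    obtain ⟨x, rfl⟩ := hπs y
    rw [hαπ, hαπ] at h'
    have he2 : e (e x) = x := e.left_inv x
    rwa [he2] at h'
  let U := E₁.map π
  have hαU : ∀ y ∈ U, α y = y := by
    rintro _ ⟨x, hx, rfl⟩
    rw [hαπ]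
    exact congrArg π (Subtype.ext (hzjE _ hx))
  have hcov : ∀ y ∈ U, ∃ x ∈ (P : Subgroup (↥D.M₁ ⧸ N₀)), x * α x = y := by
    rintro _ ⟨b, hb, rfl⟩
    obtain ⟨x, hxQ, hx⟩ := D.cov _ hb
    let x' : ↥D.M₁ := ⟨x, D.Q_le hxQ⟩
    refine ⟨π x', ⟨x', (hP₁ x').2 hxQ, rfl⟩, ?_⟩
    rw [hαπ, ← map_mul]
    have h := hπ1 (b⁻¹ * (x' * e x')) hx
    rw [map_mul, map_inv, inv_mul_eq_one] at h
    exact h.symm
  have hU : U.Normal := normal_of_stronglyClosed_of_aut hO P hab h2 U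
    (Fusion.sc_map hsc π hπs) α hαP hαU hcov
  -- back to the group
  have hmain : ∀ m : G, m ∈ D.M₁ → m * a * m⁻¹ ∈ theta z ⊔ M.even i := by
    intro m hm
    let a' : ↥D.M₁ := ⟨a, hEM ha⟩
    let m' : ↥D.M₁ := ⟨m, hm⟩
    obtain ⟨b, hb, hbe⟩ := hU.conj_mem (π a') ⟨a', ha, rfl⟩ (π m')
    have hn : b⁻¹ * (m' * a' * m'⁻¹) ∈ N₀ := by
      refine (QuotientGroup.eq_one_iff _).1 ?_
      show π (b⁻¹ * (m' * a' * m'⁻¹)) = 1
      rw [map_mul, map_inv, hbe, map_mul, map_mul, map_inv, inv_mul_cancel]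
    obtain ⟨o, ho, c, hc, hoc⟩ := mem_sup_of_normal_left.1 hn
    have hO₁θ : core D.M₁ ≤ theta z := by
      refine le_core ((core_le _).trans D.le_cent) (core_odd _) fun h hh d hd =>
        core_map_conj (C := D.M₁) (fun c => ⟨fun hc => ?_, fun hc => ?_⟩) hd
      · have := D.normal h⁻¹ (mem_cent.1 (inv_mem hh)) _ hc
        rwa [show h⁻¹ * (h * c * h⁻¹) * h⁻¹⁻¹ = c by group] at this
      · exact D.normal h (mem_cent.1 hh) _ hc
    have e1 : m * a * m⁻¹ = (b : G) * ((o : G) * (c : G)) := by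
      have h := congrArg (fun t : ↥D.M₁ => ((b * t : ↥D.M₁) : G)) hoc
      simp only [mul_inv_cancel_left] at h
      simpa [a', m'] using h.symm
    rw [e1]
    refine mul_mem (mem_sup_right hb) (mul_mem (mem_sup_left (hO₁θ ⟨o, ho, rfl⟩)) ?_)
    obtain ⟨k, rfl⟩ := mem_zpowers_iff.1 hc
    refine mem_sup_right ?_
    rw [SubgroupClass.coe_zpow]
    exact zpow_mem (M.z_mem_even i) k
  rcases D.cover g hg with h | h
  · exact hmain g h
  · have := hmain _ h
    rwa [show g * M.z j * a * (g * M.z j)⁻¹ = g * (M.z j * a * (M.z j)⁻¹) * g⁻¹ by group,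
      hzjE a ha] at this

theorem decomp_z (i : Fin 5) : Decomp A (M.z i) := by
  classical
  haveI : Fact (Nat.Prime 2) := ⟨Nat.prime_two⟩
  obtain ⟨j, hji, -⟩ := fin5_third i i
  obtain ⟨D⟩ := M.exists_zdata hji
  set z := M.z i with hz
  set C := centralizer ({z} : Set G) with hC
  have hzA : z ∈ A := M.z_mem i
  set E := M.even i with hE
  have hEA : E ≤ A := M.even_le i
  have hAC : A ≤ C := fun a ha => mem_cent.2 (M.comm ha hzA)
  have hA2 : IsPGroup 2 A := IsPGroup.of_card (n := 4) M.card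
  have hstep1 : ∀ g ∈ C, ∃ k ∈ theta z, k⁻¹ * g ∈ normalizer (E : Set G) := fun g hg =>
    frattini (core_odd _) (hA2.to_le hEA) (fun a ha k hk => core_conj (hAC (hEA ha)) hk)
      fun a ha => M.even_conj_mem D (mem_cent.1 hg) ha
  set Dg := C ⊓ centralizer (E : Set G) with hDg
  have hADg : A ≤ Dg := le_inf hAC fun a ha =>
    mem_centralizer_iff.2 fun e he => M.comm (hEA he) ha
  have hfix : ∀ n ∈ normalizer (A : Set G), n ∈ Dg → M.f n = 1 := by
    intro n hn hnD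
    obtain ⟨hnC, hnE⟩ := Subgroup.mem_inf.1 hnD
    refine a5_fix_pairs i _ (M.z_inj (by rw [← M.conj_z hn i, mem_cent.1 hnC, mul_inv_cancel_right]))
      fun a b hai hbi hab => ?_
    have h1 : n * (M.z a * M.z b) * n⁻¹ = M.z a * M.z b := by
      rw [← mem_centralizer_iff.1 hnE _ ⟨{a, b}, evenOff_pair i a b hai hbi hab, M.ev_pair hab⟩,
        mul_inv_cancel_right]
    rw [M.conj_pair hn] at h1
    rcases M.pair_eq hab (fun e => hab ((M.f n).1.injective e)) h1 with ⟨e, -⟩ | ⟨e, -⟩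
    exacts [Or.inl e, Or.inr e]
  set A' := A.subgroupOf Dg with hA'
  obtain ⟨P, hP⟩ := (hA2.of_equiv (subgroupOfEquivOfLe hADg).symm : IsPGroup 2 A').exists_le_sylow
  have hPA : (P : Subgroup ↥Dg) = A' := by
    by_contra hne
    haveI : Group.IsNilpotent ↥(P : Subgroup ↥Dg) := P.2.isNilpotent
    have hlt : A'.subgroupOf (P : Subgroup ↥Dg) < ⊤ := lt_top_iff_ne_top.2 fun h =>
      hne (le_antisymm (fun x hx => by
        have hx' : (⟨x, hx⟩ : ↥(P : Subgroup ↥Dg)) ∈ A'.subgroupOf (P : Subgroup ↥Dg) := by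
          rw [h]; exact mem_top _
        exact mem_subgroupOf.1 hx') hP)
    obtain ⟨t, ht, htA⟩ := SetLike.exists_of_lt
      (normalizerCondition_of_isNilpotent (G := ↥(P : Subgroup ↥Dg)) _ hlt)
    refine htA ?_
    have htN : (((t : ↥Dg)) : G) ∈ normalizer (A : Set G) := by
      refine mem_nz_of_conj fun a ha => ?_
      have h := (mem_normalizer_iff.1 ht ⟨⟨a, hADg ha⟩, hP ha⟩).1 (show a ∈ A from ha)
      exact h
    obtain ⟨k, hk⟩ := P.2 t
    exact M.mem_A_of htN (hfix _ htN (t : ↥Dg).2)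
      (congrArg (fun x : ↥(P : Subgroup ↥Dg) => ((x : ↥Dg) : G)) hk)
  have hNC : normalizer ((P : Subgroup ↥Dg) : Set ↥Dg) ≤ centralizer ((P : Subgroup ↥Dg) : Set ↥Dg) := by
    intro y hy
    have hyN : (y : G) ∈ normalizer (A : Set G) := mem_nz_of_conj fun a ha => by
      have hmem : (⟨a, hADg ha⟩ : ↥Dg) ∈ (P : Subgroup ↥Dg) := by rw [hPA]; exact ha
      have h := (mem_normalizer_iff.1 hy _).1 hmem
      rw [hPA] at h
      exact h
    refine mem_centralizer_iff.2 fun p hp => Subtype.ext ?_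
    have hpA : (p : G) ∈ A := by
      have : p ∈ (P : Subgroup ↥Dg) := hp
      rw [hPA] at this
      exact this
    exact (M.f_eq_one_comm hyN (hfix _ hyN y.2) hpA).symm
  set K := (MonoidHom.transferSylow P hNC).ker with hK
  have hcomp : K.IsComplement' (P : Subgroup ↥Dg) := MonoidHom.ker_transferSylow_isComplement' P hNC
  haveI : K.Normal := MonoidHom.normal_ker _
  have hKodd : Odd (Nat.card K) := by
    rw [Nat.odd_iff, ← Nat.two_dvd_ne_zero]
    intro h2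
    refine P.not_dvd_index ?_
    rw [Nat.eq_of_mul_eq_mul_left (Nat.card_pos (α := (P : Subgroup ↥Dg)))
      (m := (P : Subgroup ↥Dg).index) (k := Nat.card K)
      (by rw [card_mul_index, mul_comm, hcomp.card_mul_card])]
    exact h2
  have hmemK : ∀ y : ↥Dg, Odd (orderOf y) → y ∈ K := by
    intro y hy
    refine MonoidHom.mem_ker.2 (orderOf_eq_one_iff.1 ?_)
    obtain ⟨k, hk⟩ := IsPGroup.iff_orderOf.1 P.2 (MonoidHom.transferSylow P hNC y)
    exact Nat.eq_one_of_dvd_coprimes ((Nat.coprime_two_left.2 hy).pow_left k)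
      (hk ▸ dvd_rfl) (orderOf_map_dvd _ y)
  clear_value K
  set D₀ := K.map Dg.subtype with hD₀
  have hD₀odd : Odd (Nat.card D₀) := by rwa [hD₀, card_map_of_injective Dg.subtype_injective]
  set R := C ⊓ normalizer (E : Set G) with hR
  have hconjD : ∀ g ∈ R, ∀ d ∈ Dg, g * d * g⁻¹ ∈ Dg := by
    intro g hg d hd
    obtain ⟨hgC, hgE⟩ := Subgroup.mem_inf.1 hg
    obtain ⟨hdC, hdE⟩ := Subgroup.mem_inf.1 hd
    refine Subgroup.mem_inf.2 ⟨mul_mem (mul_mem hgC hdC) (inv_mem hgC), ?_⟩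
    refine mem_centralizer_iff.2 fun e he => ?_
    have he' : g⁻¹ * e * g ∈ E := by
      have := (mem_normalizer_iff.1 (inv_mem hgE) e).1 he
      rwa [inv_inv] at this
    have h := mem_centralizer_iff.1 hdE _ he'
    calc e * (g * d * g⁻¹) = g * (g⁻¹ * e * g * d) * g⁻¹ := by group
      _ = g * (d * (g⁻¹ * e * g)) * g⁻¹ := by rw [h]
      _ = g * d * g⁻¹ * e := by group
  have hD₀θ : D₀ ≤ theta z := by
    refine absorb (R := R) inf_le_left (fun g hg => ?_)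
      ((map_subtype_le _).trans inf_le_left) hD₀odd ?_
    · obtain ⟨k, hk, hkg⟩ := hstep1 g hg
      exact ⟨k, hk, k⁻¹ * g, Subgroup.mem_inf.2 ⟨mul_mem (inv_mem (core_le C hk)) hg, hkg⟩, by group⟩
    · rintro g hg _ ⟨d, hd, rfl⟩
      refine ⟨⟨g * d * g⁻¹, hconjD g hg d d.2⟩, hmemK _ ?_, rfl⟩
      rw [← Subgroup.orderOf_coe, Invol.orderOf_conj]
      exact orderOf_odd_of_mem hD₀odd ⟨d, hd, rfl⟩
  intro x hx
  obtain ⟨k, hk, hkx⟩ := hstep1 x (mem_cent.2 hx)
  have hgR : k⁻¹ * x ∈ R :=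
    Subgroup.mem_inf.2 ⟨mul_mem (inv_mem (core_le C hk)) (mem_cent.2 hx), hkx⟩
  obtain ⟨d, hd, hdn⟩ := frattini (g := k⁻¹ * x) hD₀odd hA2 (fun a ha d hd => by
      obtain ⟨d', hd', rfl⟩ := hd
      exact ⟨_, ‹K.Normal›.conj_mem d' hd' (⟨a, hADg ha⟩ : ↥Dg), rfl⟩)
    fun a ha => by
      obtain ⟨k', hk', p, hp, e⟩ := mem_sup_of_normal_left.1 (hcomp.sup_eq_top ▸
        mem_top (⟨_, hconjD _ hgR a (hADg ha)⟩ : ↥Dg))
      have e' : (k' : G) * (p : G) = k⁻¹ * x * a * (k⁻¹ * x)⁻¹ := congrArg Subtype.val e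
      rw [← e']
      rw [hPA] at hp
      exact mul_mem (mem_sup_left ⟨k', hk', rfl⟩) (mem_sup_right hp)
  exact ⟨k * d, mul_mem hk (hD₀θ hd), d⁻¹ * (k⁻¹ * x), hdn, by group⟩

end Model

end Cfsg.Agent.EightType
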