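import Cfsg.Agent.EightType.CentV
import Cfsg.Agent.EightType.CentB
import Cfsg.Agent.EightType.CentZTwo
import Cfsg.Agent.SignalizerTwo.Main
import Cfsg.Agent.S0205

/-!
The signalizer functor given by the odd cores of centralizers, and the normality of `A` modulo the
odd core.
-/

set_option autoImplicit false
set_option linter.unusedSectionVars false
set_option linter.style.haveILetI false
set_option maxHeartbeats 1000000

namespace Cfsg.Agent.EightType

open Subgroup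

universe u

variable {G : Type u} [Group G] [Finite G] {A : Subgroup G}

namespace Model

variable (M : Model A)
include M

theorem decomp_all {a : G} (ha : a ∈ A) (ha1 : a ≠ 1) : Decomp A a := by
  rcases M.types ha ha1 with ⟨i, rfl⟩ | ⟨i, j, hij, rfl⟩
  · exact M.decomp_z i
  · exact M.decomp_pair M.decomp_z hij

theorem coreN_le_theta {a : G} (ha : a ∈ A) (ha1 : a ≠ 1) :
    core (normalizer (A : Set G)) ≤ theta a := by
  refine absorb (R := centralizer ({a} : Set G) ⊓ normalizer (A : Set G)) inf_le_left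
    (fun h hh => ?_) (fun o ho => mem_cent.2 (M.core_comm ho ha)) (core_odd _)
    fun r hr d hd => core_conj (Subgroup.mem_inf.1 hr).2 hd
  obtain ⟨o, ho, n, hn, rfl⟩ := M.decomp_all ha ha1 h (mem_cent.1 hh)
  refine ⟨o, ho, n, Subgroup.mem_inf.2 ⟨?_, hn⟩, rfl⟩
  have := mul_mem (inv_mem (core_le (centralizer ({a} : Set G)) ho)) hh
  rwa [inv_mul_cancel_left] at this

theorem balance {a b x : G} (hb : b ∈ A) (hb1 : b ≠ 1) (ha : a ∈ A) (hx : x ∈ theta a)
    (hxb : x * b = b * x) : x ∈ theta b := by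
  obtain ⟨o, ho, n, hn, hxe⟩ := M.decomp_all hb hb1 x hxb
  have hconj : ∀ {c d : G}, c ∈ A → d ∈ theta b → c * d * c⁻¹ ∈ theta b := fun hc hd =>
    theta_conj_mem (M.comm hc hb) hd
  have hf : M.f n = 1 := by
    refine M.eq_one_of_central fun c hc => ?_
    rw [← M.act_eq hn hc]
    set a' := n * c * n⁻¹ * c⁻¹ with ha'
    have ha'A : a' ∈ A := mul_mem (Base.conj_mem hn hc) (inv_mem hc)
    set e := x * (c * x⁻¹ * c⁻¹) with he
    have hea : e ∈ theta a := mul_mem hx (theta_conj_mem (M.comm hc ha) (inv_mem hx))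
    set o' := c * o⁻¹ * c⁻¹ with ho'
    have ho'θ : o' ∈ theta b := hconj hc (inv_mem ho)
    have hee : e = o * a' * o' := by rw [he, hxe, ha', ho']; group
    have heb : e ∈ theta b := by
      refine mem_of_sq (orderOf_odd_of_mem (core_odd _) hea) ?_
      have e2 : e * e = o * (a' * (o' * o) * a'⁻¹) * (a' * a') * o' := by rw [hee]; group
      rw [e2, M.sq ha'A, mul_one]
      exact mul_mem (mul_mem ho (hconj ha'A (mul_mem ho'θ ho))) ho'θ
    have h1 : a' ∈ theta b := by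
      have := mul_mem (mul_mem (inv_mem ho) heb) (inv_mem ho'θ)
      rwa [hee, show o⁻¹ * (o * a' * o') * o'⁻¹ = a' by group] at this
    have h2 : a' = 1 := eq_one_of_odd (orderOf_odd_of_mem (core_odd _) h1) (k := 1)
      (by rw [pow_one, pow_two]; exact M.sq ha'A)
    exact mul_inv_eq_one.1 (ha'.symm.trans h2)
  obtain ⟨c, hc, o₁, ho₁, hne⟩ := M.ker_decomp hn hf
  have ho₂ : o * (c * o₁ * c⁻¹) ∈ theta b := mul_mem ho (hconj hc (M.coreN_le_theta hb hb1 ho₁))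
  set o₂ := o * (c * o₁ * c⁻¹) with ho₂def
  have hx2 : x = o₂ * c := by rw [hxe, hne, ho₂def]; group
  refine mem_of_sq (orderOf_odd_of_mem (core_odd _) hx) ?_
  have e2 : x * x = o₂ * (c * o₂ * c⁻¹) * (c * c) := by rw [hx2]; group
  rw [e2, M.sq hc, mul_one]
  exact mul_mem ho₂ (hconj hc ho₂)

theorem exists_conj_in {H : Subgroup G} (hNH : normalizer (A : Set G) ≤ H) {w : G}
    (hw : w * w = 1) (hwH : w ∈ H) : ∃ m ∈ H, m * w * m⁻¹ ∈ normalizer (A : Set G) := by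
  haveI : Fact (Nat.Prime 2) := ⟨Nat.prime_two⟩
  obtain ⟨S, hS⟩ := M.sylow
  let w' : ↥H := ⟨w, hwH⟩
  have hp : IsPGroup 2 (zpowers w') := by
    rintro ⟨y, hy⟩
    obtain ⟨k, rfl⟩ := mem_zpowers_iff.1 hy
    refine ⟨1, Subtype.ext ?_⟩
    show (w' ^ k) ^ (2 ^ 1) = 1
    rw [pow_one, pow_two, ← (Commute.refl w').mul_zpow, show w' * w' = 1 from Subtype.ext hw,
      one_zpow]
  obtain ⟨Q, hQ⟩ := hp.exists_le_sylow
  obtain ⟨m, hm⟩ := MulAction.exists_smul_eq ↥H Q (S.subtype (hS.trans hNH))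
  refine ⟨m, m.2, hS ?_⟩
  have h := Subgroup.smul_mem_pointwise_smul _ (MulAut.conj m) _ (hQ (mem_zpowers w'))
  rw [← Sylow.coe_subgroup_smul, hm] at h
  exact h

theorem conj_out_mem {H : Subgroup G} (hNH : normalizer (A : Set G) ≤ H)
    (hAH : ∀ a ∈ A, a ≠ 1 → centralizer ({a} : Set G) ≤ H) {v : G}
    (hv : v ∈ normalizer (A : Set G)) (hv2 : orderOf v = 2) (hvf : M.f v ≠ 1) (g : G) :
    g * v * g⁻¹ ∈ H := by
  have hz2 : orderOf (M.z 0) = 2 := M.orderOf_two (M.z_mem 0) (M.z_ne 0)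
  have hnc : ¬ IsConj (M.z 0) (g * v * g⁻¹) := fun h =>
    (M.reps_not_conj hv hv2 hvf).2.1 (h.trans (Invol.isConj_conj g v).symm)
  obtain ⟨w, hw, hwz, hwv⟩ :=
    Invol.exists_common_of_not_isConj hz2 ((Invol.orderOf_conj g v).trans hv2) hnc
  have hwH : w ∈ H := hAH _ (M.z_mem 0) (M.z_ne 0) (mem_cent.2 hwz.eq)
  obtain ⟨m, hm, hmN⟩ := M.exists_conj_in hNH (Invol.inv_mul_self hw) hwH
  set y := m * w * m⁻¹ with hy
  have hy2 : orderOf y = 2 := (Invol.orderOf_conj m w).trans hw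
  have hcy : centralizer ({y} : Set G) ≤ H := by
    by_cases hf : M.f y = 1
    · exact hAH y (M.invol_mem_A hmN hf (Invol.inv_mul_self hy2)) (Invol.inv_ne_one hy2)
    · exact M.centV_le hmN hy2 hf hNH hAH
  have h1 : m * (g * v * g⁻¹) * m⁻¹ ∈ centralizer ({y} : Set G) := mem_cent.2 (by
    rw [hy, conj_mul, conj_mul, hwv.eq])
  have h2 := mul_mem (mul_mem (inv_mem hm) (hcy h1)) hm
  rwa [show m⁻¹ * (m * (g * v * g⁻¹) * m⁻¹) * m = g * v * g⁻¹ by group] at h2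

theorem normalClosure_out_le {H : Subgroup G} (hNH : normalizer (A : Set G) ≤ H)
    (hAH : ∀ a ∈ A, a ≠ 1 → centralizer ({a} : Set G) ≤ H) {v : G}
    (hv : v ∈ normalizer (A : Set G)) (hv2 : orderOf v = 2) (hvf : M.f v ≠ 1) :
    normalClosure ({v} : Set G) ≤ H := by
  refine (closure_le _).2 fun x hx => ?_
  obtain ⟨a, ha, hc⟩ := Group.mem_conjugatesOfSet_iff.1 hx
  rw [Set.mem_singleton_iff] at ha
  subst ha
  obtain ⟨g, rfl⟩ := isConj_iff.1 hc
  exact M.conj_out_mem hNH hAH hv hv2 hvf g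

theorem le_of_invariant {T : Subgroup G}
    (hn : ∀ n ∈ normalizer (A : Set G), ∀ t ∈ T, n * t * n⁻¹ ∈ T) {c : G} (hc : c ∈ T)
    (hcA : c ∈ A) (hc1 : c ≠ 1) : A ≤ T := by
  have hz : ∀ k, M.z k ∈ T := by
    have all_z : ∀ {c : G}, c ∈ T → M.ZT c → ∀ k, M.z k ∈ T := by
      intro c hc hcz k
      obtain ⟨n, hnN, rfl⟩ := M.zt_conj_base hcz
      obtain ⟨m, hmN, hm⟩ := M.zt_conj_base ⟨k, rfl⟩
      rw [← hm]
      have := hn (m * n⁻¹) (mul_mem hmN (inv_mem hnN)) _ hc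
      rwa [show m * n⁻¹ * (n * M.z 0 * n⁻¹) * (m * n⁻¹)⁻¹ = m * M.z 0 * m⁻¹ by group] at this
    rcases M.types hcA hc1 with h | h
    · exact all_z hc h
    · have hp : ∀ i j, i ≠ j → M.z i * M.z j ∈ T := by
        intro i j hij
        obtain ⟨n, hnN, rfl⟩ := M.bt_conj_base h
        obtain ⟨m, hmN, hm⟩ := M.bt_conj_base ⟨i, j, hij, rfl⟩
        rw [← hm]
        have := hn (m * n⁻¹) (mul_mem hmN (inv_mem hnN)) _ hc
        rwa [show m * n⁻¹ * (n * (M.z 0 * M.z 1) * n⁻¹) * (m * n⁻¹)⁻¹ = m * (M.z 0 * M.z 1) * m⁻¹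
          by group] at this
      refine all_z ?_ ⟨0, rfl⟩
      rw [← M.four_mul (i := 0) (a := 1) (b := 2) (c := 3) (d := 4) (by decide) (by decide)
        (by decide) (by decide)]
      exact mul_mem (hp 1 2 (by decide)) (hp 3 4 (by decide))
  intro a ha
  rcases eq_or_ne a 1 with rfl | ha1
  · exact one_mem _
  rcases M.types ha ha1 with ⟨i, rfl⟩ | ⟨i, j, -, rfl⟩
  exacts [hz i, mul_mem (hz i) (hz j)]

theorem main : (A ⊔ Cfsg.oddCore G).Normal := by
  haveI : Fact (Nat.Prime 2) := ⟨Nat.prime_two⟩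
  set O := Cfsg.oddCore G with hO
  haveI : O.Normal := Cores.pPrimeCore_normal_inst (p := 2) G
  have hOodd : Odd (Nat.card O) := Nat.coprime_two_right.1 (Cores.pPrimeCore_coprime (p := 2))
  obtain ⟨v, hv, hv2, hvf⟩ := M.exists_out
  have hfun : Cfsg.IsSolvableSignalizerFunctor 2 A (fun a => theta a) := by
    refine ⟨⟨fun a _ _ => core_le _, fun a _ _ => not_two_dvd_of_odd (core_odd _),
      fun a ha _ b hb x hx => theta_conj_mem (M.comm hb ha) hx,
      fun a ha _ b hb hb1 x hx => ?_⟩, fun a _ _ => Cfsg.Agent.S0205.result (core_odd _)⟩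
    obtain ⟨hx1, hx2⟩ := Subgroup.mem_inf.1 hx
    exact M.balance hb hb1 ha hx1 (mem_cent.1 hx2)
  set W := ⨆ b : {b : G // b ∈ A ∧ b ≠ 1}, theta (b : G) with hWdef
  obtain ⟨⟨-, hW2, -, -⟩, -⟩ := SignalizerTwo.complete_iSup M.elem (by rw [M.card]; norm_num) hfun
  have hθW : ∀ a ∈ A, a ≠ 1 → theta a ≤ W := fun a ha ha1 =>
    le_iSup (fun b : {b : G // b ∈ A ∧ b ≠ 1} => theta (b : G)) ⟨a, ha, ha1⟩
  set H₁ := normalizer (W : Set G) with hH₁
  have hN1 : normalizer (A : Set G) ≤ H₁ := fun n hn => mem_nz_of_conj fun x hx => by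
    suffices h : W ≤ W.comap (MulAut.conj n).toMonoidHom from h hx
    refine iSup_le fun b y hy => ?_
    refine hθW (n * b * n⁻¹) (Base.conj_mem hn b.2.1) ?_ (theta_map_conj n hy)
    intro h
    refine b.2.2 ?_
    have := congrArg (fun t => n⁻¹ * t * n) h
    simpa [mul_assoc] using this
  have hC1 : ∀ a ∈ A, a ≠ 1 → centralizer ({a} : Set G) ≤ H₁ := by
    intro a ha ha1 x hx
    obtain ⟨o, ho, n, hn, rfl⟩ := M.decomp_all ha ha1 x (mem_cent.1 hx)
    exact mul_mem (Subgroup.le_normalizer (hθW a ha ha1 ho)) (hN1 hn)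
  set L := normalClosure ({v} : Set G) with hL
  haveI : L.Normal := normalClosure_normal
  have hL1 : L ≤ H₁ := M.normalClosure_out_le hN1 hC1 hv hv2 hvf
  have hvL : v ∈ L := subset_normalClosure rfl
  have hAL : A ≤ L := by
    obtain ⟨h4, hcomm⟩ := M.fixed_invol (M.f_sq hv (Invol.inv_mul_self hv2)) hvf
    obtain ⟨c, hc, hc1⟩ : ∃ c ∈ M.fixed (M.f v), c ≠ 1 := by
      by_contra hne
      push Not at hne
      rw [(Subgroup.eq_bot_iff_forall _).2 hne, card_bot] at h4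
      omega
    obtain ⟨a, ha, hac⟩ := hcomm c hc
    refine le_trans (M.le_of_invariant (T := L ⊓ A) (fun n hn t ht => ?_) ?_ hc.1 hc1) inf_le_left
    · obtain ⟨ht1, ht2⟩ := Subgroup.mem_inf.1 ht
      exact Subgroup.mem_inf.2 ⟨‹L.Normal›.conj_mem t ht1 n, Base.conj_mem hn ht2⟩
    · refine Subgroup.mem_inf.2 ⟨?_, hc.1⟩
      rw [← hac, ← M.act_eq hv ha]
      have e : a * (v * a * v⁻¹) = a * v * a⁻¹ * v⁻¹ := by rw [M.inv_eq ha]; group
      rw [e]
      exact mul_mem (‹L.Normal›.conj_mem v hvL a) (inv_mem hvL)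
  have hWn : ∀ h ∈ H₁, ∀ x ∈ W, h * x * h⁻¹ ∈ W := fun h hh x hx =>
    (mem_normalizer_iff.1 hh x).1 hx
  have hcoreL : core L ≤ O := le_oddCore (core_odd _) fun g d hd =>
    core_map_conj (C := L) (fun c => ⟨fun hc => by
      have := ‹L.Normal›.conj_mem _ hc g⁻¹
      rwa [show g⁻¹ * (g * c * g⁻¹) * g⁻¹⁻¹ = c by group] at this,
      fun hc => ‹L.Normal›.conj_mem c hc g⟩) hd
  have hX : L ⊓ W ≤ O := by
    refine le_trans (le_core inf_le_left ?_ fun l hl d hd => ?_) hcoreL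
    · exact Nat.odd_iff.2 (Nat.two_dvd_ne_zero.1 fun h => hW2 (h.trans (card_dvd_of_le inf_le_right)))
    · obtain ⟨hd1, hd2⟩ := Subgroup.mem_inf.1 hd
      exact Subgroup.mem_inf.2 ⟨‹L.Normal›.conj_mem d hd1 l, hWn l (hL1 hl) d hd2⟩
  set H₂ := normalizer (A : Set G) ⊔ O with hH₂
  have hθ2 : ∀ a ∈ A, a ≠ 1 → theta a ≤ H₂ := by
    intro a ha ha1 x hx
    have hxW := hθW a ha ha1 hx
    obtain ⟨k, hk, hkx⟩ := frattini (K := O) (g := x) hOodd (IsPGroup.of_card (n := 4) M.card)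
      (fun c _ k hk => ‹O.Normal›.conj_mem k hk c) fun c hc => by
        have h1 : x * c * x⁻¹ * c⁻¹ ∈ L ⊓ W := Subgroup.mem_inf.2
          ⟨mul_mem (‹L.Normal›.conj_mem c (hAL hc) x) (inv_mem (hAL hc)), by
            rw [show x * c * x⁻¹ * c⁻¹ = x * (c * x⁻¹ * c⁻¹) by group]
            exact mul_mem hxW (hWn c (hL1 (hAL hc)) _ (inv_mem hxW))⟩
        have := mul_mem (mem_sup_left (hX h1) : x * c * x⁻¹ * c⁻¹ ∈ O ⊔ A) (mem_sup_right hc)
        rwa [inv_mul_cancel_right] at this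
    have := mul_mem (mem_sup_right hk : k ∈ H₂) (mem_sup_left hkx)
    rwa [mul_inv_cancel_left] at this
  have hN2 : normalizer (A : Set G) ≤ H₂ := le_sup_left
  have hC2 : ∀ a ∈ A, a ≠ 1 → centralizer ({a} : Set G) ≤ H₂ := by
    intro a ha ha1 x hx
    obtain ⟨o, ho, n, hn, rfl⟩ := M.decomp_all ha ha1 x (mem_cent.1 hx)
    exact mul_mem (hθ2 a ha ha1 ho) (hN2 hn)
  have hL2 : L ≤ H₂ := M.normalClosure_out_le hN2 hC2 hv hv2 hvf
  have hnorm : ∀ m ∈ H₂, ∀ x ∈ A ⊔ O, m * x * m⁻¹ ∈ A ⊔ O := by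
    intro m hm
    have hle : H₂ ≤ normalizer ((A ⊔ O : Subgroup G) : Set G) := by
      refine sup_le (fun n hn => mem_nz_of_conj fun x hx => ?_) (le_trans le_sup_right le_normalizer)
      suffices h : A ⊔ O ≤ (A ⊔ O).comap (MulAut.conj n).toMonoidHom from h hx
      exact sup_le (fun a ha => mem_sup_left (Base.conj_mem hn ha))
        (fun o ho => mem_sup_right (‹O.Normal›.conj_mem o ho n))
    exact fun x hx => (mem_normalizer_iff.1 (hle hm) x).1 hx
  refine ⟨fun x hx g => ?_⟩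
  suffices h : A ⊔ O ≤ (A ⊔ O).comap (MulAut.conj g).toMonoidHom from h hx
  refine sup_le (fun a ha => ?_) (fun o ho => mem_sup_right (‹O.Normal›.conj_mem o ho g))
  show g * a * g⁻¹ ∈ A ⊔ O
  rcases eq_or_ne a 1 with rfl | ha1
  · simp
  set y := g * a * g⁻¹ with hy
  have hyH : y ∈ H₂ := hL2 (‹L.Normal›.conj_mem a (hAL ha) g)
  obtain ⟨m, hm, hmN⟩ := M.exists_conj_in hN2 (w := y)
    (by rw [hy, conj_mul, M.sq ha, mul_one, mul_inv_cancel]) hyH
  have hmA : m * y * m⁻¹ ∈ A := M.mem_A_of_isConj ha hmN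
    ((Invol.isConj_conj g a).trans (Invol.isConj_conj m y))
  have := hnorm m⁻¹ (inv_mem hm) _ (mem_sup_left hmA)
  rwa [show m⁻¹ * (m * y * m⁻¹) * m⁻¹⁻¹ = y by group] at this

end Model

end Cfsg.Agent.EightType
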